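import Mathlib.LinearAlgebra.Matrix.ProjectiveSpecialLinearGroup
import Mathlib.LinearAlgebra.Matrix.GeneralLinearGroup.Defs
import Mathlib.FieldTheory.Finite.Basic
import Mathlib.GroupTheory.Sylow
import Mathlib.GroupTheory.Nilpotent

/-!
The automorphisms of `PSL₂(q)`: every one is a product of a conjugation by an element of `GL₂(q)`
and a field automorphism.
-/

set_option autoImplicit false

namespace CfsgLib.PSL2

open Matrix
open scoped MatrixGroups

variable {F : Type*} [Field F]

local notation "SL" => Matrix.SpecialLinearGroup (Fin 2) F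
local notation "PSL" => Matrix.ProjectiveSpecialLinearGroup (Fin 2) F

/-- Automorphisms descend to the quotient by the centre. -/
def centreQuotAut (S : Type*) [Group S] : MulAut S →* MulAut (S ⧸ Subgroup.center S) where
  toFun e := QuotientGroup.congr _ _ e
    (Subgroup.characteristic_iff_map_eq.mp inferInstance e)
  map_one' := MulEquiv.ext fun x => QuotientGroup.induction_on x fun a => rfl
  map_mul' e e' := MulEquiv.ext fun x => QuotientGroup.induction_on x fun a => rfl

/-- Conjugation of `SL₂` by `GL₂`. -/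
def conjSL : GL (Fin 2) F →* MulAut SL where
  toFun g :=
    { toFun := fun A => ⟨g.1 * A.1 * (g⁻¹).1, by
        rw [Matrix.det_units_conj, A.2]⟩
      invFun := fun A => ⟨(g⁻¹).1 * A.1 * g.1, by
        rw [Matrix.det_units_conj', A.2]⟩
      left_inv := fun A => Subtype.ext (by simp [Matrix.mul_assoc])
      right_inv := fun A => Subtype.ext (by simp [Matrix.mul_assoc])
      map_mul' := fun A B => Subtype.ext (by
        change g.1 * (A * B).1 * (g⁻¹).1 = (g.1 * A.1 * (g⁻¹).1) * (g.1 * B.1 * (g⁻¹).1)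
        rw [SpecialLinearGroup.coe_mul]; simp [Matrix.mul_assoc]) }
  map_one' := MulEquiv.ext fun A => Subtype.ext (by
    change (1 : GL (Fin 2) F).1 * A.1 * ((1 : GL (Fin 2) F)⁻¹).1 = A.1
    simp)
  map_mul' g h := MulEquiv.ext fun A => Subtype.ext (by
    change (g * h).1 * A.1 * ((g * h)⁻¹).1 = g.1 * (h.1 * A.1 * (h⁻¹).1) * (g⁻¹).1
    simp [Matrix.mul_assoc])

/-- Conjugation of `PSL₂` by `GL₂`. -/
def diagAut : GL (Fin 2) F →* MulAut PSL :=
  (centreQuotAut SL).comp conjSL

/-- The action of field automorphisms on `SL₂`. -/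
def fieldSL (e : F ≃+* F) : MulAut SL where
  toFun := SpecialLinearGroup.map e.toRingHom
  invFun := SpecialLinearGroup.map e.symm.toRingHom
  left_inv A := Subtype.ext (by ext i j; simp)
  right_inv A := Subtype.ext (by ext i j; simp)
  map_mul' := map_mul _

/-- The action of field automorphisms on `PSL₂`. -/
def fieldAut (e : F ≃+* F) : MulAut PSL := centreQuotAut SL (fieldSL e)

/-- The projection. -/
abbrev mk : SL →* PSL := QuotientGroup.mk' _

theorem mk_eq_mk {A B : SL} : mk A = mk B ↔ B.1 = A.1 ∨ B.1 = -A.1 := by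
  rw [QuotientGroup.mk'_apply, QuotientGroup.mk'_apply, QuotientGroup.eq,
    SpecialLinearGroup.mem_center_iff]
  constructor
  · rintro ⟨r, hr, h⟩
    have hB : B.1 = A.1 * Matrix.scalar (Fin 2) r := by
      rw [h, ← SpecialLinearGroup.coe_mul, mul_inv_cancel_left]
    rw [Fintype.card_fin, sq_eq_one_iff] at hr
    rcases hr with rfl | rfl
    · exact Or.inl (by rw [hB, map_one, mul_one])
    · exact Or.inr (by rw [hB, map_neg, map_one, mul_neg, mul_one])
  · rintro (h | h)
    · exact ⟨1, by simp, by rw [Subtype.ext h, inv_mul_cancel]; simp⟩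
    · refine ⟨-1, by simp, ?_⟩
      have : (A⁻¹ * B).1 = (A⁻¹).1 * -A.1 := by rw [SpecialLinearGroup.coe_mul, h]
      rw [this, mul_neg, ← SpecialLinearGroup.coe_mul, inv_mul_cancel]
      ext i j
      by_cases hij : i = j <;> simp [hij]

/-- Upper unitriangular elements. -/
def uSL (t : F) : SL := ⟨!![1, t; 0, 1], by simp [Matrix.det_fin_two_of]⟩

/-- Lower unitriangular elements. -/
def vSL (t : F) : SL := ⟨!![1, 0; t, 1], by simp [Matrix.det_fin_two_of]⟩

theorem coe_uSL (t : F) : (uSL t).1 = !![1, t; 0, 1] := rfl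

theorem coe_vSL (t : F) : (vSL t).1 = !![1, 0; t, 1] := rfl

/-- Upper unitriangular elements of `PSL₂`, as a homomorphism. -/
def uHom : Multiplicative F →* PSL where
  toFun t := mk (uSL t.toAdd)
  map_one' := by
    rw [show uSL (Multiplicative.toAdd (1 : Multiplicative F)) = (1 : SL) from Subtype.ext (by
      simp [coe_uSL, Matrix.one_fin_two]), map_one]
  map_mul' a b := by
    rw [← map_mul]; congr 1; apply Subtype.ext
    simp [coe_uSL, Matrix.mul_fin_two, add_comm]

/-- Lower unitriangular elements of `PSL₂`, as a homomorphism. -/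
def vHom : Multiplicative F →* PSL where
  toFun t := mk (vSL t.toAdd)
  map_one' := by
    rw [show vSL (Multiplicative.toAdd (1 : Multiplicative F)) = (1 : SL) from Subtype.ext (by
      simp [coe_vSL, Matrix.one_fin_two]), map_one]
  map_mul' a b := by
    rw [← map_mul]; congr 1; apply Subtype.ext
    simp [coe_vSL, Matrix.mul_fin_two]

/-- The element `u(t)` of `PSL₂`. -/
abbrev uu (t : F) : PSL := uHom (Multiplicative.ofAdd t)

/-- The element `v(t)` of `PSL₂`. -/
abbrev vv (t : F) : PSL := vHom (Multiplicative.ofAdd t)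

theorem uu_eq (t : F) : uu t = mk (uSL t) := rfl

theorem vv_eq (t : F) : vv t = mk (vSL t) := rfl

theorem uu_injective : Function.Injective (uu : F → PSL) := by
  intro s t h
  rw [uu_eq, uu_eq, mk_eq_mk] at h
  rcases h with h | h
  · simpa [coe_uSL] using (congrFun (congrFun h 0) 1).symm
  · have h0 : (1 : F) = -1 := by simpa [coe_uSL] using congrFun (congrFun h 0) 0
    have h1 : t = -s := by simpa [coe_uSL] using congrFun (congrFun h 0) 1
    rw [h1, neg_eq_neg_one_mul, ← h0, one_mul]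

theorem vv_injective : Function.Injective (vv : F → PSL) := by
  intro s t h
  rw [vv_eq, vv_eq, mk_eq_mk] at h
  rcases h with h | h
  · simpa [coe_vSL] using (congrFun (congrFun h 1) 0).symm
  · have h0 : (1 : F) = -1 := by simpa [coe_vSL] using congrFun (congrFun h 0) 0
    have h1 : t = -s := by simpa [coe_vSL] using congrFun (congrFun h 1) 0
    rw [h1, neg_eq_neg_one_mul, ← h0, one_mul]

theorem mem_uRange_iff (A : SL) :
    mk A ∈ (uHom : Multiplicative F →* PSL).range ↔
      A.1 1 0 = 0 ∧ A.1 0 0 = A.1 1 1 ∧ (A.1 0 0 = 1 ∨ A.1 0 0 = -1) := by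
  constructor
  · rintro ⟨t, ht⟩
    rcases mk_eq_mk.mp ht with h | h <;> rw [h] <;> simp [coe_uSL]
  · rintro ⟨h10, heq, h00 | h00⟩
    · exact ⟨Multiplicative.ofAdd (A.1 0 1), mk_eq_mk.mpr (Or.inl (by
        rw [Matrix.eta_fin_two A.1, h10, ← heq, h00]; simp [coe_uSL]))⟩
    · exact ⟨Multiplicative.ofAdd (-A.1 0 1), mk_eq_mk.mpr (Or.inr (by
        rw [Matrix.eta_fin_two A.1, h10, ← heq, h00]; simp [coe_uSL]))⟩

theorem upper_of_normalizes (g : SL) (h : mk g * uu 1 * (mk g)⁻¹ ∈ (uHom : Multiplicative F →* PSL).range) :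
    g.1 1 0 = 0 := by
  rw [uu_eq, ← map_inv, ← map_mul, ← map_mul, mem_uRange_iff] at h
  obtain ⟨h, -, -⟩ := h
  simp [coe_uSL, SpecialLinearGroup.coe_inv, Matrix.adjugate_fin_two, Matrix.mul_apply,
    Fin.sum_univ_two] at h
  by_contra hc
  have : g.1 1 0 * g.1 1 0 = 0 := by linear_combination (-1 : F) * h
  exact hc (mul_self_eq_zero.mp this)

theorem lower_of_normalizes (g : SL) (t : F) (h : mk g * vv 1 * (mk g)⁻¹ = vv t) : g.1 0 1 = 0 := by
  rw [vv_eq, vv_eq, ← map_inv, ← map_mul, ← map_mul, mk_eq_mk] at h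
  have h' : (g * vSL 1 * g⁻¹).1 0 1 = 0 := by
    rcases h with h | h
    · rw [← h]; simp [coe_vSL]
    · rw [← neg_eq_iff_eq_neg.mpr h]; simp [coe_vSL]
  simp [coe_vSL, SpecialLinearGroup.coe_inv, Matrix.adjugate_fin_two, Matrix.mul_apply,
    Fin.sum_univ_two] at h'
  by_contra hc
  have : g.1 0 1 * g.1 0 1 = 0 := by linear_combination (-1 : F) * h'
  exact hc (mul_self_eq_zero.mp this)

section Finite

variable [Fintype F]

theorem eq_one_or_neg_one_of_pow {p : ℕ} [Fact p.Prime] [CharP F p] {a : F} {k : ℕ}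
    (h : a ^ p ^ k = 1 ∨ a ^ p ^ k = -1) : a = 1 ∨ a = -1 := by
  rcases h with h | h
  · exact Or.inl (iterateFrobenius_inj F p k (by simpa [iterateFrobenius_def] using h))
  · exact Or.inr (iterateFrobenius_inj F p k (by
      simpa [iterateFrobenius_def, map_neg] using h))

/-- The upper unitriangular group is a Sylow `p`-subgroup. -/
def uSylow (p : ℕ) [Fact p.Prime] [CharP F p] : Sylow p PSL where
  toSubgroup := (uHom : Multiplicative F →* PSL).range
  isPGroup' := by
    rintro ⟨_, t, rfl⟩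
    refine ⟨1, Subtype.ext ?_⟩
    change (uHom t) ^ p ^ 1 = 1
    rw [pow_one, ← map_pow]
    have : t ^ p = 1 := Multiplicative.toAdd.injective (by simp)
    rw [this, map_one]
  is_maximal' := by
    intro Q hQ hle
    have := hQ.isNilpotent
    by_contra hne
    have hlt : ((uHom : Multiplicative F →* PSL).range).subgroupOf Q < ⊤ := by
      rw [lt_top_iff_ne_top, Ne, Subgroup.subgroupOf_eq_top]
      exact fun h => hne (le_antisymm h hle)
    obtain ⟨⟨x, hxQ⟩, hxN, hxU⟩ := SetLike.exists_of_lt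
      (Group.normalizerCondition_of_isNilpotent _ hlt)
    apply hxU
    rw [Subgroup.mem_subgroupOf]
    have hx : x * uu 1 * x⁻¹ ∈ (uHom : Multiplicative F →* PSL).range :=
      (Subgroup.mem_normalizer_iff.mp hxN ⟨uu 1, hle ⟨_, rfl⟩⟩).mp
        (Subgroup.mem_subgroupOf.mpr ⟨_, rfl⟩)
    obtain ⟨g, rfl⟩ := QuotientGroup.mk'_surjective _ x
    have h10 := upper_of_normalizes g hx
    obtain ⟨k, hk⟩ := hQ ⟨_, hxQ⟩
    have hk' : mk (g ^ p ^ k) = mk 1 := by rw [map_pow, map_one]; exact congrArg Subtype.val hk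
    have hpow : ∀ i : ℕ, (g ^ i).1 1 0 = 0 ∧ (g ^ i).1 0 0 = g.1 0 0 ^ i := by
      intro i
      induction i with
      | zero => simp
      | succ i ih =>
        rw [pow_succ, SpecialLinearGroup.coe_mul, Matrix.mul_apply, Matrix.mul_apply,
          Fin.sum_univ_two, Fin.sum_univ_two, ih.1, ih.2, h10, pow_succ]
        constructor <;> ring
    have h00 : g.1 0 0 = 1 ∨ g.1 0 0 = -1 := by
      refine eq_one_or_neg_one_of_pow (p := p) (k := k) ?_
      rw [← (hpow _).2]
      rcases mk_eq_mk.mp hk'.symm with h | h <;> rw [h] <;> simp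
    refine (mem_uRange_iff g).mpr ⟨h10, ?_, h00⟩
    have hdet := g.2
    rw [Matrix.det_fin_two, h10, mul_zero, sub_zero] at hdet
    rcases h00 with h | h <;> rw [h] at hdet ⊢
    · rw [one_mul] at hdet; exact hdet.symm
    · rw [neg_one_mul, neg_eq_iff_eq_neg] at hdet; exact hdet.symm

omit [Fintype F] in
/-- `antidiagonal` conjugates `u(t)` into the lower group. -/
theorem conj_uu_of_zero (k : SL) (hk : k.1 0 0 = 0) (t : F) :
    mk k * uu t * (mk k)⁻¹ = vv (-(k.1 1 0) ^ 2 * t) := by
  rw [uu_eq, vv_eq, ← map_inv, ← map_mul, ← map_mul]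
  congr 1
  apply Subtype.ext
  have hdet := k.2
  rw [Matrix.det_fin_two, hk, zero_mul, zero_sub] at hdet
  simp only [SpecialLinearGroup.coe_mul, SpecialLinearGroup.coe_inv, coe_uSL, coe_vSL,
    Matrix.adjugate_fin_two]
  ext i j
  fin_cases i <;> fin_cases j <;>
    simp [Matrix.mul_apply, Fin.sum_univ_two, hk] <;>
    first | linear_combination hdet | ring1

/-- An automorphism can be normalized to fix both unitriangular groups. -/
theorem exists_normalized (p : ℕ) [Fact p.Prime] [CharP F p] (φ : MulAut PSL) :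
    ∃ g : PSL, (∀ t, ∃ s, (MulAut.conj g * φ) (uu t) = uu s) ∧
      (∀ t, ∃ s, (MulAut.conj g * φ) (vv t) = vv s) := by
  classical
  have : Finite SL := inferInstance
  have : Finite PSL := Quotient.finite _
  let U := uSylow (F := F) p
  obtain ⟨g₁, hg₁⟩ := MulAction.exists_smul_eq PSL
    (U.mapSurjective (f := φ.toMonoidHom) φ.surjective) U
  have hU : ∀ t, ∃ s, g₁ * φ (uu t) * g₁⁻¹ = uu s := by
    intro t
    have h : g₁ * φ (uu t) * g₁⁻¹ ∈ ((g₁ • (U.mapSurjective (f := φ.toMonoidHom) φ.surjective) :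
        Sylow p PSL) : Subgroup PSL) := by
      rw [Sylow.coe_subgroup_smul]
      exact ⟨φ (uu t), ⟨uu t, ⟨_, rfl⟩, rfl⟩, rfl⟩
    rw [hg₁] at h
    obtain ⟨s, hs⟩ := h
    exact ⟨s.toAdd, hs.symm⟩
  let W : SL := ⟨!![0, 1; -1, 0], by simp [Matrix.det_fin_two_of]⟩
  have hW00 : W.1 0 0 = 0 := by simp [W]
  have hW10 : W.1 1 0 = -1 := by simp [W]
  let w : PSL := mk W
  let ψ : MulAut PSL := MulAut.conj g₁ * φ
  have hψU : ∀ t, ∃ s, ψ (uu t) = uu s := hU
  obtain ⟨k, hk⟩ := QuotientGroup.mk'_surjective _ (ψ w)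
  -- the image of the lower group
  have hkc : k.1 1 0 ≠ 0 := by
    intro hc
    have hdet := k.2
    rw [Matrix.det_fin_two, hc, mul_zero, sub_zero] at hdet
    have ha : k.1 0 0 ≠ 0 := fun h => by simp [h] at hdet
    have hwv : w * uu 1 * w⁻¹ = vv (-1) := by
      rw [conj_uu_of_zero W hW00 1, hW10]; simp
    obtain ⟨s, hs⟩ := hψU 1
    have hu : ψ (vv (-1)) ∈ (uHom : Multiplicative F →* PSL).range := by
      rw [← hwv, map_mul, map_mul, map_inv, hs, ← hk, uu_eq, ← map_inv, ← map_mul, ← map_mul,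
        mem_uRange_iff]
      have hd : k.1 1 1 = (k.1 0 0)⁻¹ := eq_inv_of_mul_eq_one_right hdet
      simp [coe_uSL, SpecialLinearGroup.coe_inv, Matrix.adjugate_fin_two, Matrix.mul_apply,
        Fin.sum_univ_two, hc, hd, ha]
    obtain ⟨s', hs'⟩ := hu
    -- pull back: `ψ` maps the upper group onto itself
    choose f hf using hψU
    have finj : Function.Injective f := fun a b h =>
      uu_injective (ψ.injective (by rw [hf, hf, h]))
    obtain ⟨r, hr⟩ := (Finite.injective_iff_surjective.mp finj) s'.toAdd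
    have : vv (-1 : F) = uu r := ψ.injective (hs'.symm.trans (by rw [hf, hr]; rfl))
    rw [vv_eq, uu_eq, mk_eq_mk] at this
    rcases this with h | h <;> simpa [coe_uSL, coe_vSL] using congrFun (congrFun h 1) 0
  let x : SL := uSL (-(k.1 0 0 / k.1 1 0))
  refine ⟨mk x * g₁, ?_, ?_⟩
  · intro t
    obtain ⟨s, hs⟩ := hψU t
    refine ⟨s, ?_⟩
    rw [map_mul, mul_assoc, MulAut.mul_apply, show (MulAut.conj g₁ * φ) (uu t) = uu s from hs,
      MulAut.conj_apply]
    change uu (-(k.1 0 0 / k.1 1 0)) * uu s * (uu (-(k.1 0 0 / k.1 1 0)))⁻¹ = uu s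
    rw [← map_inv, ← map_mul, ← map_mul, mul_inv_cancel_comm]
  · intro t
    have hwt : vv t = w * uu (-t) * w⁻¹ := by
      rw [conj_uu_of_zero W hW00, hW10]; simp
    obtain ⟨s, hs⟩ := hψU (-t)
    have hxk : (x * k).1 0 0 = 0 := by
      simp [x, coe_uSL, Matrix.mul_apply, Fin.sum_univ_two, hkc]
    refine ⟨-((x * k).1 1 0) ^ 2 * s, ?_⟩
    rw [map_mul, mul_assoc, MulAut.mul_apply, hwt, map_mul ((MulAut.conj g₁ * φ)),
      map_mul ((MulAut.conj g₁ * φ)), map_inv, show (MulAut.conj g₁ * φ) w = mk k from hk.symm,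
      show (MulAut.conj g₁ * φ) (uu (-t)) = uu s from hs, MulAut.conj_apply,
      ← conj_uu_of_zero _ hxk s, map_mul]
    group

/-- `diag(a, a⁻¹)`. -/
def dSL (a : F) (ha : a ≠ 0) : SL := ⟨!![a, 0; 0, a⁻¹], by simp [Matrix.det_fin_two_of, ha]⟩

omit [Fintype F] in
theorem coe_dSL (a : F) (ha : a ≠ 0) : (dSL a ha).1 = !![a, 0; 0, a⁻¹] := rfl

omit [Fintype F] in
theorem mk_diag_conj_u (a : F) (ha : a ≠ 0) (t : F) :
    mk (dSL a ha) * uu t *
      (mk (dSL a ha))⁻¹ = uu (a ^ 2 * t) := by
  rw [uu_eq, uu_eq, ← map_inv, ← map_mul, ← map_mul]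
  congr 1
  apply Subtype.ext
  simp only [SpecialLinearGroup.coe_mul, SpecialLinearGroup.coe_inv, coe_uSL, coe_dSL, Matrix.adjugate_fin_two]
  ext i j
  fin_cases i <;> fin_cases j <;> simp [Matrix.mul_apply, Fin.sum_univ_two, ha] <;> ring

omit [Fintype F] in
theorem mk_diag_conj_v (a : F) (ha : a ≠ 0) (t : F) :
    mk (dSL a ha) * vv t *
      (mk (dSL a ha))⁻¹ =
        vv ((a ^ 2)⁻¹ * t) := by
  rw [vv_eq, vv_eq, ← map_inv, ← map_mul, ← map_mul]
  congr 1
  apply Subtype.ext
  simp only [SpecialLinearGroup.coe_mul, SpecialLinearGroup.coe_inv, coe_vSL, coe_dSL, Matrix.adjugate_fin_two]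
  ext i j
  fin_cases i <;> fin_cases j <;> simp [Matrix.mul_apply, Fin.sum_univ_two, ha] <;> ring

/-- An element normalizing both unitriangular groups is diagonal, and acts by a square. -/
theorem exists_sq (d : PSL) (s r : F) (hu : d * uu 1 * d⁻¹ = uu s) (hv : d * vv 1 * d⁻¹ = vv r) :
    ∃ b : F, b ≠ 0 ∧ (∀ t, d * uu t * d⁻¹ = uu (b ^ 2 * t)) ∧
      (∀ t, d * vv t * d⁻¹ = vv ((b ^ 2)⁻¹ * t)) := by
  obtain ⟨g, rfl⟩ := QuotientGroup.mk'_surjective _ d
  have h10 := upper_of_normalizes g (hu ▸ ⟨_, rfl⟩)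
  have h01 := lower_of_normalizes g r hv
  have hdet := g.2
  rw [Matrix.det_fin_two, h10, mul_zero, sub_zero] at hdet
  have ha : g.1 0 0 ≠ 0 := fun h => by simp [h] at hdet
  have hg : g = dSL (g.1 0 0) ha :=
    Subtype.ext (by
      conv_lhs => rw [Matrix.eta_fin_two g.1, h10, h01, eq_inv_of_mul_eq_one_right hdet]
      rfl)
  refine ⟨g.1 0 0, ha, fun t => ?_, fun t => ?_⟩
  · conv_lhs => rw [hg]
    exact mk_diag_conj_u _ ha t
  · conv_lhs => rw [hg]
    exact mk_diag_conj_v _ ha t

omit [Fintype F] in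
theorem generate_squares_even {p : ℕ} [CharP F p] [Finite F] (hp : p = 2) (x : F) :
    ∃ y : F, y ^ 2 = x := by
  subst hp
  have : Fact (Nat.Prime 2) := ⟨Nat.prime_two⟩
  exact (Finite.injective_iff_surjective.mp (frobenius_inj F 2)) x

/-- Additive maps multiplicative against squares are multiplicative. -/
theorem squares_generate {p : ℕ} [Fact p.Prime] [CharP F p] (S : AddSubgroup F)
    (h : ∀ y : F, y ^ 2 ∈ S) (x : F) : x ∈ S := by
  by_cases hp : p = 2
  · obtain ⟨y, rfl⟩ := generate_squares_even hp x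
    exact h y
  · have h2 : (2 : F) ≠ 0 := by
      intro h0
      have h0' : ((2 : ℕ) : F) = 0 := by simpa using h0
      rw [CharP.cast_eq_zero_iff F p] at h0'
      exact hp ((Nat.prime_dvd_prime_iff_eq Fact.out Nat.prime_two).mp h0')
    have e : ((x + 1) / 2) ^ 2 - ((x - 1) / 2) ^ 2 = x := by field_simp; ring
    rw [← e]
    exact S.sub_mem (h _) (h _)

omit [Fintype F] in
theorem trace_cases {A : SL} (hns : ∀ r : F, A.1 ≠ Matrix.scalar (Fin 2) r) :
    ((mk A) ^ 2 = 1 → A.1 0 0 + A.1 1 1 = 0) ∧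
      ((mk A) ^ 3 = 1 → (A.1 0 0 + A.1 1 1) ^ 2 = 1) := by
  set t := A.1 0 0 + A.1 1 1 with ht
  have hdet := A.2
  rw [Matrix.det_fin_two] at hdet
  have hA2 : A.1 * A.1 = t • A.1 - 1 := by
    ext i j
    fin_cases i <;> fin_cases j <;> simp [Matrix.mul_apply, Fin.sum_univ_two, ht] <;>
      first | ring1 | linear_combination (-1 : F) * hdet
  have scal : ∀ a b : F, a • A.1 = Matrix.scalar (Fin 2) b → a = 0 := by
    intro a b hab
    by_contra ha
    apply hns (a⁻¹ * b)
    have := congrArg (fun M => a⁻¹ • M) hab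
    simp only [smul_smul, inv_mul_cancel₀ ha, one_smul] at this
    rw [this]
    ext i j
    by_cases hij : i = j <;> simp [Matrix.scalar_apply, hij]
  have hA2' : t • A.1 = A.1 * A.1 + 1 := by rw [hA2, sub_add_cancel]
  have scalar_eq : ∀ r : F, Matrix.scalar (Fin 2) r = r • (1 : Matrix (Fin 2) (Fin 2) F) := by
    intro r
    ext i j
    by_cases hij : i = j <;> simp [Matrix.scalar_apply, hij, Matrix.one_apply]
  have pm : ∀ B : SL, mk B = 1 → B.1 = 1 ∨ B.1 = -1 := by
    intro B hB
    rw [← map_one (mk : SL →* PSL), eq_comm, mk_eq_mk, SpecialLinearGroup.coe_one] at hB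
    exact hB
  constructor
  · intro h
    rw [← map_pow] at h
    rcases pm _ h with e | e <;> rw [SpecialLinearGroup.coe_pow, pow_two] at e
    · refine scal t 2 ?_
      rw [hA2', e, scalar_eq, two_smul]
    · refine scal t 0 ?_
      rw [hA2', e, map_zero, neg_add_cancel]
  · intro h
    rw [← map_pow] at h
    have h3 : A.1 * A.1 * A.1 = (t ^ 2 - 1) • A.1 - Matrix.scalar (Fin 2) t := by
      rw [hA2, sub_mul, smul_mul_assoc, hA2, one_mul, smul_sub, smul_smul, sub_smul, pow_two,
        scalar_eq, one_smul]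
      abel
    have h0 : t ^ 2 - 1 = 0 := by
      rcases pm _ h with e | e <;>
        rw [SpecialLinearGroup.coe_pow, pow_three, ← mul_assoc, h3, sub_eq_iff_eq_add] at e
      · refine scal _ (1 + t) ?_
        rw [e, scalar_eq, scalar_eq]; module
      · refine scal _ (-1 + t) ?_
        rw [e, scalar_eq, scalar_eq]; module
    linear_combination h0

/-- The unitriangular groups generate. -/
theorem eq_one_of_fix_generators (φ : MulAut PSL) (hu : ∀ t, φ (uu t) = uu t)
    (hv : ∀ t, φ (vv t) = vv t) : φ = 1 := by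
  have key : ∀ A : SL, φ (mk A) = mk A := by
    intro A
    have hu' : ∀ t, φ (mk (uSL t)) = mk (uSL t) := hu
    have hv' : ∀ t, φ (mk (vSL t)) = mk (vSL t) := hv
    have hc : ∀ A : SL, A.1 1 0 ≠ 0 → φ (mk A) = mk A := by
      intro A hA
      have e : A = uSL ((A.1 0 0 - 1) / A.1 1 0) * vSL (A.1 1 0) *
          uSL ((A.1 1 1 - 1) / A.1 1 0) := by
        apply Subtype.ext
        have hdet := A.2
        rw [Matrix.det_fin_two] at hdet
        simp only [SpecialLinearGroup.coe_mul, coe_uSL, coe_vSL]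
        ext i j
        fin_cases i <;> fin_cases j <;> simp [Matrix.mul_apply, Fin.sum_univ_two] <;>
          field_simp <;> first | ring1 | linear_combination (-1 : F) * hdet
      rw [e, map_mul, map_mul, map_mul, map_mul, hu', hu', hv']
    by_cases hA : A.1 1 0 = 0
    · have h' := hc (vSL 1 * A) (by
        have hdet := A.2
        rw [Matrix.det_fin_two, hA, mul_zero, sub_zero] at hdet
        simp [coe_vSL, Matrix.mul_apply, Fin.sum_univ_two, hA]
        exact fun h => by simp [h] at hdet)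
      rw [map_mul, map_mul, hv'] at h'
      exact mul_left_cancel h'
    · exact hc A hA
  ext x
  obtain ⟨A, rfl⟩ := QuotientGroup.mk'_surjective _ x
  exact key A

omit [Fintype F] in
theorem diagAut_apply (g : GL (Fin 2) F) (A : SL) : diagAut g (mk A) = mk (conjSL g A) := rfl

omit [Fintype F] in
theorem fieldAut_apply (e : F ≃+* F) (A : SL) :
    fieldAut e (mk A) = mk (SpecialLinearGroup.map e.toRingHom A) := rfl

omit [Fintype F] in
theorem fieldAut_uu (e : F ≃+* F) (t : F) : fieldAut e (uu t) = uu (e t) := by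
  rw [uu_eq, fieldAut_apply, uu_eq]
  congr 1
  apply Subtype.ext
  ext i j
  fin_cases i <;> fin_cases j <;> simp [coe_uSL]

omit [Fintype F] in
theorem fieldAut_vv (e : F ≃+* F) (t : F) : fieldAut e (vv t) = vv (e t) := by
  rw [vv_eq, fieldAut_apply, vv_eq]
  congr 1
  apply Subtype.ext
  ext i j
  fin_cases i <;> fin_cases j <;> simp [coe_vSL]

omit [Fintype F] in
theorem coe_conjSL (g : GL (Fin 2) F) (A : SL) : (conjSL g A).1 = g.1 * A.1 * (g⁻¹).1 := rfl

/-- `diag(c, 1)`. -/
def dil : Fˣ →* GL (Fin 2) F where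
  toFun c :=
    { val := !![(c : F), 0; 0, 1]
      inv := !![((c⁻¹ : Fˣ) : F), 0; 0, 1]
      val_inv := by simp [Matrix.mul_fin_two, Matrix.one_fin_two]
      inv_val := by simp [Matrix.mul_fin_two, Matrix.one_fin_two] }
  map_one' := Units.ext (by simp [Matrix.one_fin_two])
  map_mul' a b := Units.ext (by simp [Matrix.mul_fin_two])

omit [Fintype F] in
theorem diagAut_dil_uu (c : Fˣ) (t : F) : diagAut (dil c) (uu t) = uu (c * t) := by
  rw [uu_eq, diagAut_apply, uu_eq]
  congr 1
  apply Subtype.ext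
  rw [coe_conjSL, ← map_inv, coe_uSL, coe_uSL]
  simp [dil, Matrix.mul_fin_two]

omit [Fintype F] in
theorem diagAut_dil_vv (c : Fˣ) (t : F) :
    diagAut (dil c) (vv t) = vv ((c⁻¹ : Fˣ) * t) := by
  rw [vv_eq, diagAut_apply, vv_eq]
  congr 1
  apply Subtype.ext
  rw [coe_conjSL, ← map_inv, coe_vSL, coe_vSL]
  simp [dil, Matrix.mul_fin_two, mul_comm]

omit [Fintype F] in
theorem diagAut_toGL (A : SL) : diagAut (SpecialLinearGroup.toGL A) = MulAut.conj (mk A) := by
  ext x
  obtain ⟨B, rfl⟩ := QuotientGroup.mk'_surjective _ x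
  rw [MulAut.conj_apply, ← map_inv, ← map_mul, ← map_mul]
  change mk (conjSL _ B) = _
  congr 1

/-- Every automorphism of `PSL₂(q)` is a conjugation by `GL₂(q)` times a field automorphism. -/
theorem exists_diag_field (p : ℕ) [Fact p.Prime] [CharP F p] (φ : MulAut PSL) :
    ∃ (g : GL (Fin 2) F) (e : F ≃+* F), φ = diagAut g * fieldAut e := by
  obtain ⟨g₀, hU, hV⟩ := exists_normalized p φ
  choose f hf using hU
  choose g hg using hV
  set ψ := MulAut.conj g₀ * φ with hψ
  have fadd : ∀ a b, f (a + b) = f a + f b := fun a b => uu_injective (by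
    rw [← hf, uu, ofAdd_add, map_mul, map_mul]
    change ψ (uu a) * ψ (uu b) = _
    rw [hf, hf, uu, uu, ← map_mul, ← ofAdd_add])
  have gadd : ∀ a b, g (a + b) = g a + g b := fun a b => vv_injective (by
    rw [← hg, vv, ofAdd_add, map_mul, map_mul]
    change ψ (vv a) * ψ (vv b) = _
    rw [hg, hg, vv, vv, ← map_mul, ← ofAdd_add])
  have finj : Function.Injective f := fun a b h => uu_injective (ψ.injective (by rw [hf, hf, h]))
  have ginj : Function.Injective g := fun a b h => vv_injective (ψ.injective (by rw [hg, hg, h]))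
  let fh : F →+ F := AddMonoidHom.mk' f fadd
  let gh : F →+ F := AddMonoidHom.mk' g gadd
  have f0 : f 0 = 0 := map_zero fh
  have g0 : g 0 = 0 := map_zero gh
  have f1 : f 1 ≠ 0 := fun h => one_ne_zero (finj (h.trans f0.symm))
  -- make `f 1 = 1`
  let c : Fˣ := (Units.mk0 (f 1) f1)⁻¹
  let χ := diagAut (dil c) * ψ
  let F' : F → F := fun t => (f 1)⁻¹ * f t
  let G' : F → F := fun t => f 1 * g t
  have hF : ∀ t, χ (uu t) = uu (F' t) := fun t => by
    simp only [χ, F', MulAut.mul_apply, hf, diagAut_dil_uu, c, Units.val_inv_eq_inv_val, Units.val_mk0]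
  have hG : ∀ t, χ (vv t) = vv (G' t) := fun t => by
    simp only [χ, G', MulAut.mul_apply, hg, diagAut_dil_vv, c, inv_inv, Units.val_mk0]
  have F1 : F' 1 = 1 := inv_mul_cancel₀ f1
  have sq : ∀ a, a ≠ 0 → (∀ t, F' (a ^ 2 * t) = F' (a ^ 2) * F' t) ∧
      (∀ t, G' ((a ^ 2)⁻¹ * t) = (F' (a ^ 2))⁻¹ * G' t) := by
    intro a ha
    set d := χ (mk (dSL a ha)) with hd
    have eu : ∀ t, d * uu (F' t) * d⁻¹ = uu (F' (a ^ 2 * t)) := fun t => by
      rw [← hF, hd, ← map_inv, ← map_mul, ← map_mul, mk_diag_conj_u a ha, hF]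
    have ev : ∀ t, d * vv (G' t) * d⁻¹ = vv (G' ((a ^ 2)⁻¹ * t)) := fun t => by
      rw [← hG, hd, ← map_inv, ← map_mul, ← map_mul, mk_diag_conj_v a ha, hG]
    have hGsurj : Function.Surjective G' := Finite.injective_iff_surjective.mp
      (fun x y h => ginj (mul_left_cancel₀ f1 h))
    obtain ⟨r, hr⟩ := hGsurj 1
    have e1 := eu 1
    rw [F1] at e1
    have e2 := ev r
    rw [hr] at e2
    obtain ⟨b, hb, bu, bv⟩ := exists_sq d _ _ e1 e2
    have hb2 : F' (a ^ 2) = b ^ 2 := uu_injective (by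
      have := eu 1
      rw [mul_one, bu, F1, mul_one] at this
      exact this.symm)
    refine ⟨fun t => uu_injective ?_, fun t => vv_injective ?_⟩
    · rw [← eu, bu, hb2]
    · rw [← ev, bv, hb2]
  have Fadd : ∀ x y, F' (x + y) = F' x + F' y := fun x y => by simp [F', fadd, mul_add]
  have Gadd : ∀ x y, G' (x + y) = G' x + G' y := fun x y => by simp [G', gadd, mul_add]
  let Fh : F →+ F := AddMonoidHom.mk' F' Fadd
  let Gh : F →+ F := AddMonoidHom.mk' G' Gadd
  have Fmul : ∀ x t, F' (x * t) = F' x * F' t := by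
    intro x
    let S : AddSubgroup F :=
      { carrier := {x | ∀ t, F' (x * t) = F' x * F' t}
        zero_mem' := fun t => by
          rw [zero_mul, show F' 0 = 0 from map_zero Fh, zero_mul]
        add_mem' := fun {x y} hx hy t => by rw [add_mul, Fadd, Fadd, hx, hy, add_mul]
        neg_mem' := fun {x} hx t => by
          rw [neg_mul, show F' (-(x * t)) = -F' (x * t) from map_neg Fh _,
            show F' (-x) = -F' x from map_neg Fh _, hx, neg_mul] }
    refine squares_generate (p := p) S (fun y => ?_) x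
    by_cases hy : y = 0
    · intro t; subst hy; simp [show F' 0 = 0 from map_zero Fh]
    · exact (sq y hy).1
  let e : F ≃+* F := RingEquiv.ofBijective
    ({ toFun := F', map_one' := F1, map_mul' := Fmul, map_zero' := map_zero Fh,
       map_add' := Fadd } : F →+* F)
    (Finite.injective_iff_bijective.mp (RingHom.injective _))
  have he : ∀ t, e t = F' t := fun t => rfl
  -- now remove the field automorphism
  let ω := (fieldAut e)⁻¹ * χ
  have hωu : ∀ t, ω (uu t) = uu t := fun t => by
    simp only [ω, MulAut.mul_apply, hF, ← he, ← fieldAut_uu, MulAut.inv_apply_self]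
  let H : F → F := fun t => e.symm (G' t)
  have hωv : ∀ t, ω (vv t) = vv (H t) := fun t => by
    apply (fieldAut e).injective
    rw [fieldAut_vv]
    simp only [ω, H, MulAut.mul_apply, MulAut.apply_inv_self, RingEquiv.apply_symm_apply, hG]
  have Hlin : ∀ x, H x = H 1 * x := by
    intro x
    let S : AddSubgroup F :=
      { carrier := {x | H x = H 1 * x}
        zero_mem' := by simp [H, show G' 0 = 0 from map_zero Gh]
        add_mem' := fun {x y} hx hy => by
          simp only [Set.mem_setOf_eq, H, Gadd, map_add] at hx hy ⊢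
          rw [hx, hy, mul_add]
        neg_mem' := fun {x} hx => by
          simp only [Set.mem_setOf_eq, H] at hx ⊢
          rw [show G' (-x) = -G' x from map_neg Gh _, map_neg, hx, mul_neg] }
    refine squares_generate (p := p) S (fun y => ?_) x
    by_cases hy : y = 0
    · subst hy; simp [S, H, show G' 0 = 0 from map_zero Gh]
    · have h := (sq y⁻¹ (inv_ne_zero hy)).2 1
      rw [mul_one, inv_pow, inv_inv, ← he, ← map_inv₀, inv_inv] at h
      show H (y ^ 2) = H 1 * y ^ 2
      simp only [H, h, map_mul, RingEquiv.symm_apply_apply]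
      ring
  set k := H 1 with hk
  have hk0 : k ≠ 0 := by
    intro h0
    have h1 : ω (vv 1) = ω (vv 0) := by rw [hωv, hωv, Hlin 1, Hlin 0, h0]; simp
    exact one_ne_zero (vv_injective (ω.injective h1))
  have hk1 : k = 1 := by
    have i3 : (uu (1 : F) * vv (-1)) ^ 3 = 1 := by
      rw [uu_eq, vv_eq, ← map_mul, ← map_pow, ← map_one (mk : SL →* PSL), mk_eq_mk]
      right
      simp [coe_uSL, coe_vSL, pow_three, Matrix.mul_fin_two, Matrix.one_fin_two]
    have i2 : (uu (1 : F) * vv (-1) * uu 1) ^ 2 = 1 := by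
      rw [uu_eq, vv_eq, ← map_mul, ← map_mul, ← map_pow, ← map_one (mk : SL →* PSL), mk_eq_mk]
      right
      simp [coe_uSL, coe_vSL, pow_two, Matrix.mul_fin_two, Matrix.one_fin_two]
    have j3 := congrArg ω i3
    have j2 := congrArg ω i2
    simp only [map_pow, map_mul, map_one, hωu, hωv, Hlin (-1), ← hk, mul_neg, mul_one] at j3 j2
    rw [uu_eq, vv_eq, ← map_mul] at j3
    rw [uu_eq, vv_eq, ← map_mul, ← map_mul] at j2
    have n3 : ∀ r : F, (uSL 1 * vSL (-k) : SL).1 ≠ Matrix.scalar (Fin 2) r := fun r h => by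
      simpa [coe_uSL, coe_vSL, Matrix.mul_fin_two, Matrix.scalar_apply] using congrFun (congrFun h 0) 1
    have n2 : ∀ r : F, (uSL 1 * vSL (-k) * uSL 1 : SL).1 ≠ Matrix.scalar (Fin 2) r := fun r h => by
      have := congrFun (congrFun h 1) 0
      simp [coe_uSL, coe_vSL, Matrix.mul_fin_two, Matrix.scalar_apply] at this
      exact hk0 this
    have t3 := (trace_cases n3).2 j3
    have t2 := (trace_cases n2).1 j2
    simp [coe_uSL, coe_vSL, Matrix.mul_fin_two] at t3 t2
    by_cases h2 : (2 : F) = 0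
    · rcases t3 with t3 | t3
      · linear_combination (-1 : F) * t3
      · linear_combination (-1 : F) * t3 + h2
    · have h4 : (2 : F) * (1 - k) = 0 := by linear_combination t2
      exact (sub_eq_zero.mp ((mul_eq_zero.mp h4).resolve_left h2)).symm
  have hω : ω = 1 := eq_one_of_fix_generators ω hωu fun t => by
    rw [hωv, Hlin, hk1, one_mul]
  obtain ⟨A, hA⟩ := QuotientGroup.mk'_surjective _ g₀⁻¹
  refine ⟨SpecialLinearGroup.toGL A * dil c⁻¹, e, ?_⟩
  have hχ : χ = fieldAut e := by
    have := hω; simp only [ω, inv_mul_eq_one] at this; exact this.symm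
  rw [← hχ, map_mul, diagAut_toGL, map_inv]
  simp only [χ, hψ]
  rw [show (MulAut.conj (mk A) : MulAut PSL) = MulAut.conj g₀⁻¹ from congrArg _ hA]
  simp only [map_inv]
  group

omit [Fintype F] in
/-- Equality of conjugation and field automorphism forces both to be trivial. -/
theorem scalar_of_fix (g : GL (Fin 2) F) (e : F ≃+* F) (h : diagAut g = fieldAut e) :
    e = RingEquiv.refl F ∧ ∃ r : F, g.1 = Matrix.scalar (Fin 2) r := by
  -- conjugation with a sign
  have key : ∀ A B : SL, diagAut g (mk A) = mk B → A.1 0 0 + A.1 1 1 = 2 → B.1 0 0 + B.1 1 1 = 2 →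
      g.1 * A.1 = B.1 * g.1 := by
    intro A B hAB hA hB
    rw [diagAut_apply, mk_eq_mk] at hAB
    have hAB' : B.1 = g.1 * A.1 * (g⁻¹).1 := by
      rcases hAB with e | e
      · exact e
      · have etr : (g.1 * A.1 * (g⁻¹).1).trace = 2 := by
          rw [Matrix.trace_units_conj, Matrix.trace_fin_two, hA]
        have e' : B.1 = -(g.1 * A.1 * (g⁻¹).1) := e
        have h4 : (2 : F) = -2 := by
          have := congrArg Matrix.trace e'
          rw [Matrix.trace_neg, etr, Matrix.trace_fin_two, hB] at this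
          exact this
        have h40 : (2 : F) * 2 = 0 := by linear_combination h4
        have h20 : (2 : F) = 0 := mul_self_eq_zero.mp h40
        have hneg : (-1 : F) = 1 := by linear_combination (-1 : F) * h20
        rw [e', ← neg_one_smul F (g.1 * A.1 * (g⁻¹).1), hneg, one_smul]
    rw [hAB']
    simp [Matrix.mul_assoc]
  have hu : ∀ t, g.1 * (uSL t).1 = (uSL (e t)).1 * g.1 := fun t => key _ _ (by
    rw [h]; exact fieldAut_uu e t) (by simp [coe_uSL, one_add_one_eq_two]) (by simp [coe_uSL, one_add_one_eq_two])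
  have hv : ∀ t, g.1 * (vSL t).1 = (vSL (e t)).1 * g.1 := fun t => key _ _ (by
    rw [h]; exact fieldAut_vv e t) (by simp [coe_vSL, one_add_one_eq_two]) (by simp [coe_vSL, one_add_one_eq_two])
  have a1 := congrFun (congrFun (hu 1) 0) 0
  have a2 := congrFun (congrFun (hu 1) 0) 1
  have b1 := congrFun (congrFun (hv 1) 0) 0
  simp [coe_uSL, coe_vSL, Matrix.mul_apply, Fin.sum_univ_two] at a1 a2 b1
  have h00 : g.1 0 0 ≠ 0 := by
    intro h0
    have hd := (Matrix.isUnit_iff_isUnit_det _).mp g.isUnit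
    rw [Matrix.det_fin_two, h0, a1, zero_mul, mul_zero, sub_zero] at hd
    exact not_isUnit_zero hd
  have h11 : g.1 0 0 = g.1 1 1 := by linear_combination a2
  refine ⟨?_, g.1 0 0, ?_⟩
  · ext t
    have := congrFun (congrFun (hu t) 0) 1
    simp [coe_uSL, Matrix.mul_apply, Fin.sum_univ_two] at this
    have : g.1 0 0 * (t - e t) = 0 := by linear_combination this - e t * h11
    exact (sub_eq_zero.mp ((mul_eq_zero.mp this).resolve_left h00)).symm
  · rw [Matrix.eta_fin_two g.1, a1, b1, ← h11]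
    ext i j
    fin_cases i <;> fin_cases j <;> simp [Matrix.scalar_apply]

end Finite

end CfsgLib.PSL2
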