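/-
Products of conjugacy classes in `SL₂(q)` and `PSL₂(q)`.
-/
import Cfsg.Agent.Lib.SL2Centralizer
import Cfsg.Agent.Lib.PSL2.Aut
import Mathlib.Tactic.FieldSimp

set_option autoImplicit false

namespace CfsgLib.PSL2Product

open Matrix
open CfsgLib.GL2Classes (exists_conj_comp)

variable {F : Type*} [Field F] [Fintype F]

local notation "M2" => Matrix (Fin 2) (Fin 2) F
local notation "SL2" => Matrix.SpecialLinearGroup (Fin 2) F
local notation "PSL" => Matrix.ProjectiveSpecialLinearGroup (Fin 2) F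

/-- A non-degenerate binary form takes every value. -/
theorem exists_form {γ : F} (hγ : γ ^ 2 ≠ 4) (c : F) : ∃ X Y : F, X * X - γ * X * Y + Y * Y = c := by
  by_cases h2 : ringChar F = 2
  · haveI : CharP F 2 := (ringChar.eq_iff).mp h2
    obtain ⟨r, hr⟩ := FiniteField.isSquare_of_char_two h2 c
    exact ⟨r, 0, by rw [hr]; ring⟩
  · have h2' : (2 : F) ≠ 0 := Ring.two_ne_zero h2
    have hodd : Fintype.card F % 2 = 1 := FiniteField.odd_card_of_char_ne_two h2
    set i : F := 2⁻¹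
    have hi : 2 * i = 1 := mul_inv_cancel₀ h2'
    have hk : 1 - (γ * i) ^ 2 ≠ 0 := fun e =>
      hγ (by linear_combination (-4) * e - (γ ^ 2 * (2 * i + 1)) * hi)
    obtain ⟨u, v, huv⟩ := FiniteField.exists_root_sum_quadratic
      (f := (Polynomial.X ^ 2 : Polynomial F))
      (g := Polynomial.C (1 - (γ * i) ^ 2) * Polynomial.X ^ 2 - Polynomial.C c)
      (Polynomial.degree_X_pow 2) (by
        rw [Polynomial.degree_sub_eq_left_of_degree_lt]
        · exact Polynomial.degree_C_mul_X_pow 2 hk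
        · rw [Polynomial.degree_C_mul_X_pow 2 hk]
          exact lt_of_le_of_lt Polynomial.degree_C_le (by norm_num)) hodd
    simp only [Polynomial.eval_pow, Polynomial.eval_X, Polynomial.eval_sub, Polynomial.eval_mul,
      Polynomial.eval_C] at huv
    exact ⟨u + γ * v * i, v, by linear_combination huv + (u * γ * v + γ ^ 2 * v ^ 2 * i) * hi⟩

/-- In `SL₂(q)` the trace determines the class when `trace² ≠ 4`. -/
theorem isConj_of_trace {g h : SL2} (hg : g.1.trace ^ 2 ≠ 4) (e : h.1.trace = g.1.trace) :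
    IsConj g h := by
  obtain ⟨P, hP⟩ := exists_conj_comp (SL2Centralizer.not_scalar_of_trace hg)
  obtain ⟨R, hR⟩ := exists_conj_comp (SL2Centralizer.not_scalar_of_trace (g := h) (by rwa [e]))
  rw [g.2] at hP
  rw [h.2, e] at hR
  set T : M2 := R.1 * (P⁻¹).1 with hT
  have hTg : T * g.1 = h.1 * T := by
    rw [hT, ← Matrix.mul_assoc h.1, hR]
    have : (P⁻¹).1 * g.1 = GL2Classes.comp g.1.trace 1 * (P⁻¹).1 := by
      calc (P⁻¹).1 * g.1 = (P⁻¹).1 * (g.1 * P.1) * (P⁻¹).1 := by simp [Matrix.mul_assoc]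
        _ = _ := by rw [hP]; simp [← Matrix.mul_assoc]
    rw [Matrix.mul_assoc, this, Matrix.mul_assoc R.1]
  have hdT : T.det ≠ 0 := ((Matrix.isUnit_iff_isUnit_det _).mp (R * P⁻¹).isUnit).ne_zero
  obtain ⟨x, y, hxy⟩ := exists_form (γ := -g.1.trace) (by rwa [neg_pow_two]) (T.det)⁻¹
  obtain ⟨K, hK⟩ : ∃ K : SL2, K.1 = T * (x • (1 : M2) + y • g.1) := by
    refine ⟨⟨T * (x • (1 : M2) + y • g.1), ?_⟩, rfl⟩
    rw [Matrix.det_mul, SL2Centralizer.det_lin,
      show x * x + g.1.trace * x * y + y * y = (T.det)⁻¹ by linear_combination hxy, mul_inv_cancel₀ hdT]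
  refine isConj_iff.mpr ⟨K, ?_⟩
  · rw [mul_inv_eq_iff_eq_mul]
    apply Subtype.ext
    show K.1 * g.1 = h.1 * K.1
    rw [hK]
    rw [Matrix.mul_assoc, ← Matrix.mul_assoc h.1, ← hTg, Matrix.mul_assoc T g.1]
    congr 1
    simp [Matrix.add_mul, Matrix.mul_add]

/-- The conic of factorisations with prescribed traces. -/
theorem conic {α β γ : F} (h : γ ^ 2 ≠ 4 ∨ ∃ ε : F, γ = 2 * ε ∧ ε * ε = 1 ∧
      (β ≠ ε * α ∨ ∃ u : F, u * u - α * u + 1 = 0)) :
    ∃ p r : F, p * p - γ * p * r + r * r - α * p + β * r + 1 = 0 := by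
  rcases h with h | ⟨ε, rfl, hε, h⟩
  · set D := 4 - γ ^ 2
    have hD : D ≠ 0 := fun e => h (sub_eq_zero.mp e).symm
    set p0 := (2 * α - γ * β) / D
    set r0 := (γ * α - 2 * β) / D
    have e1 : 2 * p0 - γ * r0 = α := by
      simp only [p0, r0]; field_simp; simp only [D]; ring
    have e2 : -γ * p0 + 2 * r0 = -β := by
      simp only [p0, r0]; field_simp; simp only [D]; ring
    obtain ⟨X, Y, hXY⟩ := exists_form h (-(p0 * p0 - γ * p0 * r0 + r0 * r0 - α * p0 + β * r0 + 1))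
    exact ⟨p0 + X, r0 + Y, by linear_combination hXY + X * e1 + Y * e2⟩
  · rcases h with h | ⟨u, hu⟩
    · set r := -1 / (β - ε * α)
      have hr : r * (β - ε * α) = -1 := div_mul_cancel₀ _ (sub_ne_zero.mpr h)
      exact ⟨ε * r, r, by linear_combination hr - (r * r) * hε⟩
    · refine ⟨ε * 0 + u, 0, by linear_combination hu⟩

/-- A non-central element is a product of two elements of prescribed traces. -/
theorem exists_mul {α β : F} {g : SL2} (hg : ∀ a : F, g.1 ≠ a • (1 : M2))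
    (h : g.1.trace ^ 2 ≠ 4 ∨ ∃ ε : F, g.1.trace = 2 * ε ∧ ε * ε = 1 ∧
      (β ≠ ε * α ∨ ∃ u : F, u * u - α * u + 1 = 0)) :
    ∃ x y : SL2, x.1.trace = α ∧ y.1.trace = β ∧ x * y = g := by
  obtain ⟨P, hP⟩ := exists_conj_comp hg
  rw [g.2] at hP
  set γ := g.1.trace
  obtain ⟨p, r, hpr⟩ := conic h
  set s := β + r - p * γ
  set X : M2 := !![p, r; s, α - p]
  have hX : X.det = 1 := by
    simp only [X, Matrix.det_fin_two_of, s]; linear_combination -hpr
  obtain ⟨x, hx⟩ : ∃ x : SL2, x.1 = P.1 * X * (P⁻¹).1 :=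
    ⟨⟨P.1 * X * (P⁻¹).1, by rw [Matrix.det_units_conj]; exact hX⟩, rfl⟩
  have htx : x.1.trace = α := by
    rw [hx, Matrix.trace_units_conj]; simp [X, Matrix.trace_fin_two_of]
  refine ⟨x, x⁻¹ * g, htx, ?_, mul_inv_cancel_left x g⟩
  have hgP : g.1 = P.1 * GL2Classes.comp γ 1 * (P⁻¹).1 := by rw [← hP]; simp
  have hinv : (x⁻¹).1 = P.1 * X.adjugate * (P⁻¹).1 := by
    have e1 : (x⁻¹).1 * x.1 = 1 := congrArg Subtype.val (inv_mul_cancel x)
    have e2 : x.1 * (P.1 * X.adjugate * (P⁻¹).1) = 1 := by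
      rw [hx]
      calc _ = P.1 * (X * ((P⁻¹).1 * P.1) * X.adjugate) * (P⁻¹).1 := by simp only [Matrix.mul_assoc]
        _ = P.1 * (X * X.adjugate) * (P⁻¹).1 := by simp
        _ = 1 := by rw [Matrix.mul_adjugate, hX, one_smul]; simp
    calc (x⁻¹).1 = (x⁻¹).1 * (x.1 * (P.1 * X.adjugate * (P⁻¹).1)) := by rw [e2, mul_one]
      _ = _ := by rw [← Matrix.mul_assoc, e1, one_mul]
  show ((x⁻¹).1 * g.1).trace = β
  rw [hinv, hgP]
  rw [show P.1 * X.adjugate * (P⁻¹).1 * (P.1 * GL2Classes.comp γ 1 * (P⁻¹).1) =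
      P.1 * (X.adjugate * GL2Classes.comp γ 1) * (P⁻¹).1 by simp [Matrix.mul_assoc]]
  rw [Matrix.trace_units_conj]
  simp [X, GL2Classes.comp, Matrix.adjugate_fin_two_of, Matrix.trace_fin_two, Matrix.mul_apply, Fin.sum_univ_two, s]

theorem mk_surjective : Function.Surjective (PSL2.mk : SL2 →* PSL) := QuotientGroup.mk'_surjective _

theorem not_scalar_of_mk {G : SL2} (h : PSL2.mk G ≠ 1) (a : F) : G.1 ≠ a • (1 : M2) := by
  intro e
  apply h
  have hd := G.2
  rw [e] at hd
  simp [Matrix.det_smul] at hd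
  rw [← map_one (PSL2.mk : SL2 →* PSL), eq_comm, PSL2.mk_eq_mk]
  show G.1 = 1 ∨ G.1 = -1
  rw [e]
  rcases hd with rfl | rfl
  · exact Or.inl (one_smul _ _)
  · exact Or.inr (by simp)

/-- Cayley–Hamilton. -/
theorem sq_eq (A : SL2) : A.1 * A.1 = A.1.trace • A.1 - 1 := by
  have hdet := A.2
  rw [Matrix.det_fin_two] at hdet
  ext i j
  fin_cases i <;> fin_cases j <;> simp [Matrix.mul_apply, Fin.sum_univ_two, Matrix.trace_fin_two] <;>
    first | ring1 | linear_combination (-1 : F) * hdet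

theorem sq_eq_one_of_trace {A : SL2} (h : A.1.trace = 0) : (PSL2.mk A) ^ 2 = 1 := by
  rw [← map_pow, ← map_one (PSL2.mk : SL2 →* PSL), PSL2.mk_eq_mk]
  refine Or.inr ?_
  show (1 : M2) = -(A ^ 2).1
  rw [pow_two]
  show (1 : M2) = -(A.1 * A.1)
  rw [sq_eq, h, zero_smul, zero_sub, neg_neg]

theorem pow_char_eq_one (p : ℕ) [Fact p.Prime] [CharP F p] {A : SL2} (h : A.1.trace ^ 2 = 4) :
    (PSL2.mk A) ^ p = 1 := by
  have h' : (A.1.trace - 2) * (A.1.trace + 2) = 0 := by linear_combination h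
  obtain ⟨e, he, ht⟩ : ∃ e : F, (e = 1 ∨ e = -1) ∧ A.1.trace = 2 * e := by
    rcases mul_eq_zero.mp h' with h1 | h1
    · exact ⟨1, Or.inl rfl, by linear_combination h1⟩
    · exact ⟨-1, Or.inr rfl, by linear_combination h1⟩
  have hee : e * e = 1 := by rcases he with rfl | rfl <;> ring
  set B : M2 := e • A.1 with hB
  have hB2 : (B - 1) * (B - 1) = 0 := by
    have : B * B = (2 : F) • B - 1 := by
      rw [hB, smul_mul_smul_comm, hee, one_smul, sq_eq, ht, smul_smul]
    calc (B - 1) * (B - 1) = B * B - B - B + 1 := by noncomm_ring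
      _ = 0 := by rw [this, two_smul]; abel
  have hBp : B ^ p = 1 := by
    have h1 : (B - 1) ^ p = 0 :=
      pow_eq_zero_of_le (Fact.out : p.Prime).two_le (by rw [pow_two]; exact hB2)
    have h2 : ((B - 1) + 1) ^ p = (B - 1) ^ p + 1 ^ p :=
      add_pow_char_of_commute (R := M2) (p := p) (Commute.one_right _)
    rwa [sub_add_cancel, h1, zero_add, one_pow] at h2
  rw [hB, smul_pow] at hBp
  have hA : A.1 ^ p = e ^ p • (1 : M2) := by
    rw [← hBp, smul_smul, ← mul_pow, hee, one_pow, one_smul]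
  by_contra hne
  rw [← map_pow] at hne
  exact not_scalar_of_mk hne (e ^ p) ((Matrix.SpecialLinearGroup.coe_pow A p).trans hA)

/-- The square of the class of `A` contains `g`. -/
theorem mem_sq {A : SL2} (hA : A.1.trace ^ 2 ≠ 4) {x g : PSL} (hx : PSL2.mk A = x) {G : SL2}
    (hG : PSL2.mk G = g) (hG0 : ∀ a : F, G.1 ≠ a • (1 : M2))
    (h : G.1.trace ^ 2 ≠ 4 ∨ ∃ ε : F, G.1.trace = 2 * ε ∧ ε * ε = 1 ∧
      (A.1.trace ≠ ε * A.1.trace ∨ ∃ u : F, u * u - A.1.trace * u + 1 = 0)) :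
    ∃ u v : PSL, g = (u * x * u⁻¹) * (v * x * v⁻¹) := by
  obtain ⟨X, Y, hX, hY, hXY⟩ := exists_mul hG0 h
  obtain ⟨c, hc⟩ := isConj_iff.mp (isConj_of_trace hA hX)
  obtain ⟨d, hd⟩ := isConj_iff.mp (isConj_of_trace hA hY)
  exact ⟨PSL2.mk c, PSL2.mk d, by rw [← hG, ← hXY, ← hc, ← hd, ← hx]; simp⟩

/-- A quadratic function with at most two values is constant. -/
theorem quad_const (h4 : 4 ≤ Fintype.card F) {a b d c : F}
    (h : ∀ t : F, a * t * t + b * t + d = c ∨ a * t * t + b * t + d = -c) : a = 0 ∧ b = 0 := by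
  classical
  have key : ∀ e : F, 3 ≤ (Finset.univ.filter fun t => a * t * t + b * t + d = e).card →
      a = 0 ∧ b = 0 := by
    intro e he
    obtain ⟨t1, t2, t3, h1, h2, h3, h12, h13, h23⟩ := Finset.two_lt_card_iff.mp he
    simp only [Finset.mem_filter, Finset.mem_univ, true_and] at h1 h2 h3
    have e12 : a * (t1 + t2) + b = 0 :=
      (mul_eq_zero.mp (show (t1 - t2) * (a * (t1 + t2) + b) = 0 by linear_combination h1 - h2)).resolve_left
        (sub_ne_zero.mpr h12)
    have e13 : a * (t1 + t3) + b = 0 :=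
      (mul_eq_zero.mp (show (t1 - t3) * (a * (t1 + t3) + b) = 0 by linear_combination h1 - h3)).resolve_left
        (sub_ne_zero.mpr h13)
    have ha : a = 0 :=
      (mul_eq_zero.mp (show a * (t2 - t3) = 0 by linear_combination e12 - e13)).resolve_right
        (sub_ne_zero.mpr h23)
    exact ⟨ha, by rw [ha, zero_mul, zero_add] at e12; exact e12⟩
  have hcover : (Finset.univ : Finset F) =
      (Finset.univ.filter fun t => a * t * t + b * t + d = c) ∪
        (Finset.univ.filter fun t => a * t * t + b * t + d = -c) := by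
    ext t; simpa using h t
  by_cases hc : c = -c
  · rw [← hc, Finset.union_self] at hcover
    exact key c (by rw [← hcover, Finset.card_univ]; omega)
  · have hne : Fintype.card F ≠ 4 := fun e => hc (by
      have h2 : ringChar F = 2 := FiniteField.even_card_iff_char_two.mpr (by omega)
      haveI : CharP F 2 := (ringChar.eq_iff).mp h2
      exact (CharTwo.neg_eq c).symm)
    have := (congrArg Finset.card hcover).trans_le (Finset.card_union_le _ _)
    rw [Finset.card_univ] at this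
    by_cases h1 : 3 ≤ (Finset.univ.filter fun t => a * t * t + b * t + d = c).card
    · exact key c h1
    · exact key (-c) (by omega)

/-- For non-scalar `A`, `B` the trace of `u A u⁻¹ B` takes more than two opposite values. -/
theorem exists_trace_ne (h4 : 4 ≤ Fintype.card F) {A B : SL2} (hA : ∀ a : F, A.1 ≠ a • (1 : M2))
    (hB : ∀ a : F, B.1 ≠ a • (1 : M2)) (c : F) :
    ∃ u : SL2, (u * A * u⁻¹ * B).1.trace ≠ c ∧ (u * A * u⁻¹ * B).1.trace ≠ -c := by
  by_contra hcon
  push Not at hcon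
  obtain ⟨P, hP⟩ := exists_conj_comp hA
  rw [A.2] at hP
  set s := A.1.trace
  set B' : M2 := (P⁻¹).1 * B.1 * P.1 with hB'
  have hAc : GL2Classes.comp s 1 = (P⁻¹).1 * A.1 * P.1 := by rw [Matrix.mul_assoc, hP]; simp [← Matrix.mul_assoc]
  have key : ∀ U V : M2, U * V = 1 → U.det = 1 →
      (U * GL2Classes.comp s 1 * V * B').trace = c ∨ (U * GL2Classes.comp s 1 * V * B').trace = -c := by
    intro U V hUV hU
    obtain ⟨u, hu⟩ : ∃ u : SL2, u.1 = P.1 * U * (P⁻¹).1 :=
      ⟨⟨P.1 * U * (P⁻¹).1, by rw [Matrix.det_units_conj]; exact hU⟩, rfl⟩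
    have hinv : (u⁻¹).1 = P.1 * V * (P⁻¹).1 := by
      have e1 : (u⁻¹).1 * u.1 = 1 := congrArg Subtype.val (inv_mul_cancel u)
      have e2 : u.1 * (P.1 * V * (P⁻¹).1) = 1 := by
        rw [hu]
        calc _ = P.1 * (U * ((P⁻¹).1 * P.1) * V) * (P⁻¹).1 := by simp only [Matrix.mul_assoc]
          _ = P.1 * (U * V) * (P⁻¹).1 := by simp
          _ = 1 := by rw [hUV]; simp
      calc (u⁻¹).1 = (u⁻¹).1 * (u.1 * (P.1 * V * (P⁻¹).1)) := by rw [e2, mul_one]
        _ = _ := by rw [← Matrix.mul_assoc, e1, one_mul]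
    have e : (u * A * u⁻¹ * B).1 = P.1 * (U * GL2Classes.comp s 1 * V * B') * (P⁻¹).1 := by
      show u.1 * A.1 * (u⁻¹).1 * B.1 = _
      rw [hu, hinv, hAc, hB']
      simp [Matrix.mul_assoc]
    have := hcon u
    rw [e, Matrix.trace_units_conj] at this
    by_cases hc : (U * GL2Classes.comp s 1 * V * B').trace = c
    · exact Or.inl hc
    · exact Or.inr (this hc)
  obtain ⟨p, q, r, w, hB''⟩ : ∃ p q r w, B' = !![p, q; r, w] := ⟨_, _, _, _, Matrix.eta_fin_two B'⟩
  have h1 : -r = 0 ∧ p + s * r - w = 0 := by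
    refine quad_const h4 (c := c) (d := s * w + q - r) fun t => ?_
    have := key !![1, t; 0, 1] !![1, -t; 0, 1] (by simp [Matrix.one_fin_two])
      (by simp [Matrix.det_fin_two_of])
    simp [hB'', GL2Classes.comp, Matrix.trace_fin_two, Matrix.mul_apply, Fin.sum_univ_two] at this
    rcases this with e | e
    · exact Or.inl (by linear_combination e)
    · exact Or.inr (by linear_combination e)
  have h2 : q = 0 ∧ p - w - s * q = 0 := by
    refine quad_const h4 (c := c) (d := s * w + q - r) fun t => ?_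
    have := key !![1, 0; t, 1] !![1, 0; -t, 1] (by simp [Matrix.one_fin_two])
      (by simp [Matrix.det_fin_two_of])
    simp [hB'', GL2Classes.comp, Matrix.trace_fin_two, Matrix.mul_apply, Fin.sum_univ_two] at this
    rcases this with e | e
    · exact Or.inl (by linear_combination e)
    · exact Or.inr (by linear_combination e)
  obtain ⟨hr, hpw⟩ := h1
  rw [neg_eq_zero] at hr
  subst hr
  obtain ⟨rfl, -⟩ := h2
  obtain rfl : p = w := by linear_combination hpw
  apply hB p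
  have hsc : B' = p • (1 : M2) := by
    rw [hB'']; ext i j; fin_cases i <;> fin_cases j <;> simp
  calc B.1 = P.1 * B' * (P⁻¹).1 := by simp [hB', Matrix.mul_assoc]
    _ = p • (1 : M2) := by rw [hsc]; simp

end CfsgLib.PSL2Product
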