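import Cfsg.Agent.Lib.PSL2.Aut

/-!
The normalizer of a Sylow `p`-subgroup of `PSL₂(q)` in characteristic `p` is the only maximal
subgroup containing it.
-/

set_option autoImplicit false

namespace CfsgLib.PSL2

open Matrix
open scoped MatrixGroups

variable {F : Type*} [Field F]

local notation "SL" => Matrix.SpecialLinearGroup (Fin 2) F
local notation "PSL" => Matrix.ProjectiveSpecialLinearGroup (Fin 2) F
local notation "UR" => MonoidHom.range (uHom : Multiplicative F →* PSL)

theorem conj_uu_of_upper (g : SL) (h10 : g.1 1 0 = 0) (t : F) :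
    mk g * uu t * (mk g)⁻¹ = uu (g.1 0 0 ^ 2 * t) := by
  rw [uu_eq, uu_eq, ← map_inv, ← map_mul, ← map_mul]
  congr 1
  apply Subtype.ext
  have hdet := g.2
  rw [Matrix.det_fin_two, h10, mul_zero, sub_zero] at hdet
  simp only [SpecialLinearGroup.coe_mul, SpecialLinearGroup.coe_inv, coe_uSL, Matrix.adjugate_fin_two]
  ext i j
  fin_cases i <;> fin_cases j <;> simp [Matrix.mul_apply, Fin.sum_univ_two, h10] <;>
    first | linear_combination hdet | ring1

theorem upper_mem_normalizer (g : SL) (h10 : g.1 1 0 = 0) :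
    mk g ∈ Subgroup.normalizer (UR : Set PSL) := by
  have ha : g.1 0 0 ≠ 0 := fun h => by
    have hdet := g.2
    rw [Matrix.det_fin_two, h10, h] at hdet
    simp at hdet
  rw [Subgroup.mem_normalizer_iff]
  intro x
  constructor
  · rintro ⟨t, rfl⟩
    exact ⟨Multiplicative.ofAdd (g.1 0 0 ^ 2 * t.toAdd), (conj_uu_of_upper g h10 t.toAdd).symm⟩
  · rintro ⟨t, ht⟩
    refine ⟨Multiplicative.ofAdd (t.toAdd / g.1 0 0 ^ 2), ?_⟩
    have h := conj_uu_of_upper g h10 (t.toAdd / g.1 0 0 ^ 2)
    rw [mul_div_cancel₀ _ (pow_ne_zero 2 ha)] at h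
    exact mul_left_cancel (mul_right_cancel (h.trans ht))

theorem uRange_normalizer_ne_top : Subgroup.normalizer (UR : Set PSL) ≠ ⊤ := by
  intro h
  let W : SL := ⟨!![0, 1; -1, 0], by simp [Matrix.det_fin_two_of]⟩
  have hm : mk W ∈ Subgroup.normalizer (UR : Set PSL) := by rw [h]; exact Subgroup.mem_top _
  have := upper_of_normalizes W ((Subgroup.mem_normalizer_iff.mp hm (uu 1)).mp ⟨_, rfl⟩)
  simp [W] at this

theorem le_normalizer_of_uRange_le {M : Subgroup PSL} (hU : UR ≤ M) (hM : M ≠ ⊤) :
    M ≤ Subgroup.normalizer (UR : Set PSL) := by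
  intro x hx
  obtain ⟨g, rfl⟩ := QuotientGroup.mk'_surjective _ x
  by_cases h10 : g.1 1 0 = 0
  · exact upper_mem_normalizer g h10
  exfalso
  apply hM
  let k : SL := uSL (-(g.1 0 0) / g.1 1 0) * g
  have hk00 : k.1 0 0 = 0 := by
    simp [k, coe_uSL, Matrix.mul_apply, Fin.sum_univ_two, div_mul_cancel₀ _ h10]
  have hk10 : k.1 1 0 = g.1 1 0 := by simp [k, coe_uSL, Matrix.mul_apply, Fin.sum_univ_two]
  have huM : ∀ t : F, uu t ∈ M := fun t => hU ⟨_, rfl⟩
  have hkM : mk k ∈ M := by
    rw [map_mul]; exact M.mul_mem (huM _) hx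
  have hvM : ∀ t : F, vv t ∈ M := by
    intro t
    have h := conj_uu_of_zero k hk00 (t / -(k.1 1 0) ^ 2)
    rw [mul_div_cancel₀ _ (by rw [neg_ne_zero]; exact pow_ne_zero 2 (hk10 ▸ h10))] at h
    rw [← h]
    exact M.mul_mem (M.mul_mem hkM (huM _)) (M.inv_mem hkM)
  have hc : ∀ A : SL, A.1 1 0 ≠ 0 → mk A ∈ M := by
    intro A hA
    have e : A = uSL ((A.1 0 0 - 1) / A.1 1 0) * vSL (A.1 1 0) *
        uSL ((A.1 1 1 - 1) / A.1 1 0) := by
      apply Subtype.ext
      have hdet := A.2
      rw [Matrix.det_fin_two] at hdet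
      simp only [SpecialLinearGroup.coe_mul, coe_uSL, coe_vSL]
      ext i j
      fin_cases i <;> fin_cases j <;> simp [Matrix.mul_apply, Fin.sum_univ_two] <;>
        field_simp <;> first | ring1 | linear_combination (-1 : F) * hdet
    rw [e, map_mul, map_mul]
    exact M.mul_mem (M.mul_mem (huM _) (hvM _)) (huM _)
  rw [eq_top_iff]
  intro y _
  obtain ⟨A, rfl⟩ := QuotientGroup.mk'_surjective _ y
  by_cases hA : A.1 1 0 = 0
  · have h' := hc (vSL 1 * A) (by
      have hdet := A.2
      rw [Matrix.det_fin_two, hA, mul_zero, sub_zero] at hdet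
      simp [coe_vSL, Matrix.mul_apply, Fin.sum_univ_two, hA]
      exact fun h => by simp [h] at hdet)
    rw [map_mul] at h'
    exact (M.mul_mem_cancel_left (hvM 1)).mp h'
  · exact hc A hA

/-- The normalizer of a Sylow `p`-subgroup is proper and contains every proper overgroup. -/
theorem sylow_overgroup [Fintype F] {p : ℕ} [Fact p.Prime] [CharP F p] (P : Sylow p PSL) :
    Subgroup.normalizer ((P : Subgroup PSL) : Set PSL) ≠ ⊤ ∧
      ∀ M : Subgroup PSL, (P : Subgroup PSL) ≤ M → M ≠ ⊤ →
        M ≤ Subgroup.normalizer ((P : Subgroup PSL) : Set PSL) := by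
  classical
  have : Finite SL := inferInstance
  have : Finite PSL := Quotient.finite _
  obtain ⟨g, hg⟩ := MulAction.exists_smul_eq PSL (uSylow (F := F) p) P
  let c : PSL ≃* PSL := MulAut.conj g
  have hP : (P : Subgroup PSL) = (UR).map c.toMonoidHom := by
    rw [← hg, Sylow.coe_subgroup_smul]; rfl
  have hN : Subgroup.normalizer ((P : Subgroup PSL) : Set PSL) =
      (Subgroup.normalizer (UR : Set PSL)).map c.toMonoidHom := by
    rw [hP, ← Subgroup.map_equiv_normalizer_eq]
  rw [hN]
  refine ⟨fun h => uRange_normalizer_ne_top (F := F) ?_, fun M hPM hM => ?_⟩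
  · apply Subgroup.map_injective (f := c.toMonoidHom) c.injective
    rw [h, Subgroup.map_top_of_surjective _ c.surjective]
  · have h1 : UR ≤ M.comap c.toMonoidHom := Subgroup.map_le_iff_le_comap.mp (hP ▸ hPM)
    have h2 : M.comap c.toMonoidHom ≠ ⊤ := fun h => hM (by
      rw [← Subgroup.map_comap_eq_self_of_surjective (f := c.toMonoidHom) c.surjective M, h,
        Subgroup.map_top_of_surjective _ c.surjective])
    calc M = (M.comap c.toMonoidHom).map c.toMonoidHom :=
          (Subgroup.map_comap_eq_self_of_surjective (f := c.toMonoidHom) c.surjective M).symm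
      _ ≤ _ := Subgroup.map_mono (le_normalizer_of_uRange_le h1 h2)

/-- The same for a group mapping onto `PSL₂` with `p`-group kernel. -/
theorem sylow_overgroup_of_surjective [Fintype F] {p : ℕ} [Fact p.Prime] [CharP F p] {X : Type*}
    [Group X] [Finite X] (f : X →* PSL) (hf : Function.Surjective f) (hker : IsPGroup p f.ker)
    (T : Sylow p X) :
    IsCoatom (Subgroup.normalizer ((T : Subgroup X) : Set X)) ∧
      ∀ M : Subgroup X, IsCoatom M → (T : Subgroup X) ≤ M →
        M = Subgroup.normalizer ((T : Subgroup X) : Set X) := by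
  classical
  have : Finite SL := inferInstance
  have : Finite PSL := Quotient.finite _
  set N := Subgroup.normalizer ((T : Subgroup X) : Set X) with hN
  have hkT : f.ker ≤ (T : Subgroup X) := by
    obtain ⟨Q, hQ⟩ := hker.exists_le_sylow
    obtain ⟨g, hg⟩ := MulAction.exists_smul_eq X Q T
    rw [← hg, Sylow.coe_subgroup_smul]
    intro x hx
    rw [Subgroup.mem_pointwise_smul_iff_inv_smul_mem]
    refine hQ ?_
    simpa [MulAut.smul_def] using (MonoidHom.normal_ker f).conj_mem x hx g⁻¹
  let P := T.mapSurjective hf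
  have hcT : ((P : Subgroup PSL)).comap f = (T : Subgroup X) := by
    rw [Sylow.coe_mapSurjective, Subgroup.comap_map_eq_self hkT]
  obtain ⟨h1, h2⟩ := sylow_overgroup P
  have hNeq : (Subgroup.normalizer ((P : Subgroup PSL) : Set PSL)).comap f = N := by
    rw [hN, ← hcT, Subgroup.comap_normalizer_eq_of_surjective _ hf]
  have hNtop : N ≠ ⊤ := by
    rw [← hNeq]
    intro h
    apply h1
    rw [← Subgroup.map_comap_eq_self_of_surjective hf (Subgroup.normalizer _), h,
      Subgroup.map_top_of_surjective _ hf]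
  have key : ∀ M : Subgroup X, (T : Subgroup X) ≤ M → M ≠ ⊤ → M ≤ N := by
    intro M hTM hM
    have hk : f.ker ≤ M := hkT.trans hTM
    rw [← Subgroup.comap_map_eq_self hk, ← hNeq]
    refine Subgroup.comap_mono (h2 _ ?_ fun h => hM ?_)
    · exact Subgroup.map_mono hTM
    · rw [← Subgroup.comap_map_eq_self hk, h, Subgroup.comap_top]
  refine ⟨⟨hNtop, fun K hK => ?_⟩, fun M hM hTM => ?_⟩
  · by_contra h
    exact hK.not_ge (key K (Subgroup.le_normalizer.trans hK.le) h)
  · rcases (key M hTM hM.1).eq_or_lt with h | h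
    · exact h
    · exact absurd (hM.2 _ h) hNtop

end CfsgLib.PSL2
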