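import Cfsg.Agent.Lib.PSL2.Aut
import Mathlib.FieldTheory.Galois.Basic

/-!
The field part of an automorphism of `PSL₂(q)` as a homomorphism, and its kernel.
-/

set_option autoImplicit false

namespace CfsgLib.PSL2

open Matrix
open scoped MatrixGroups

variable {F : Type*} [Field F]

local notation "SL" => Matrix.SpecialLinearGroup (Fin 2) F
local notation "PSL" => Matrix.ProjectiveSpecialLinearGroup (Fin 2) F

theorem fieldAut_refl : fieldAut (RingEquiv.refl F) = (1 : MulAut PSL) := by
  ext x
  obtain ⟨A, rfl⟩ := QuotientGroup.mk'_surjective _ x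
  rw [fieldAut_apply]
  rfl

theorem fieldAut_trans (e e' : F ≃+* F) :
    fieldAut (e'.trans e) = fieldAut e * fieldAut e' := by
  ext x
  obtain ⟨A, rfl⟩ := QuotientGroup.mk'_surjective _ x
  rw [MulAut.mul_apply, fieldAut_apply, fieldAut_apply, fieldAut_apply]
  rfl

theorem fieldAut_mul_diagAut (e : F ≃+* F) (g : GL (Fin 2) F) :
    fieldAut e * diagAut g = diagAut (GeneralLinearGroup.map e.toRingHom g) * fieldAut e := by
  ext x
  obtain ⟨A, rfl⟩ := QuotientGroup.mk'_surjective _ x
  rw [MulAut.mul_apply, MulAut.mul_apply, diagAut_apply, fieldAut_apply, fieldAut_apply,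
    diagAut_apply]
  congr 1
  apply Subtype.ext
  rw [coe_conjSL, ← map_inv]
  change (g.1 * A.1 * (g⁻¹).1).map e.toRingHom =
    g.1.map e.toRingHom * A.1.map e.toRingHom * (g⁻¹).1.map e.toRingHom
  rw [Matrix.map_mul, Matrix.map_mul]

theorem diagAut_scalar (g : GL (Fin 2) F) (r : F) (h : g.1 = Matrix.scalar (Fin 2) r) :
    diagAut g = 1 := by
  ext x
  obtain ⟨A, rfl⟩ := QuotientGroup.mk'_surjective _ x
  rw [diagAut_apply]
  change mk (conjSL g A) = mk A
  congr 1
  apply Subtype.ext
  rw [coe_conjSL, h, (Matrix.scalar_commute r (fun r' => Commute.all r r') A.1).eq, Matrix.mul_assoc,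
    ← h, ← Units.val_mul, mul_inv_cancel, Units.val_one, Matrix.mul_one]

theorem exists_dil_mul (g : GL (Fin 2) F) :
    ∃ (c : Fˣ) (A : SL), g = dil c * SpecialLinearGroup.toGL A := by
  refine ⟨GeneralLinearGroup.det g,
    ⟨((dil (GeneralLinearGroup.det g))⁻¹ * g).1, ?_⟩, ?_⟩
  · rw [Units.val_mul, Matrix.det_mul, ← map_inv]
    simp [dil, Matrix.det_fin_two_of]
    exact inv_mul_cancel₀ ((Matrix.isUnit_iff_isUnit_det _).mp g.isUnit).ne_zero
  · have : SpecialLinearGroup.toGL
        (⟨((dil (GeneralLinearGroup.det g))⁻¹ * g).1, by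
          rw [Units.val_mul, Matrix.det_mul, ← map_inv]; simp [dil, Matrix.det_fin_two_of]
          exact inv_mul_cancel₀ ((Matrix.isUnit_iff_isUnit_det _).mp g.isUnit).ne_zero⟩ : SL) =
        (dil (GeneralLinearGroup.det g))⁻¹ * g := Units.ext rfl
    rw [this, mul_inv_cancel_left]

section Finite

variable [Fintype F] (p : ℕ) [Fact p.Prime] [CharP F p]

omit [Fintype F] [Fact p.Prime] [CharP F p] in
theorem field_unique {g g' : GL (Fin 2) F} {e e' : F ≃+* F}
    (h : diagAut g * fieldAut e = diagAut g' * fieldAut e') : e = e' := by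
  have h1 : diagAut (g'⁻¹ * g) = fieldAut (e.symm.trans e') := by
    rw [fieldAut_trans, map_mul, map_inv, inv_mul_eq_iff_eq_mul, ← mul_assoc, ← h, mul_assoc,
      ← fieldAut_trans, RingEquiv.symm_trans_self, fieldAut_refl, mul_one]
  obtain ⟨h2, -⟩ := scalar_of_fix _ _ h1
  ext x
  have h3 := RingEquiv.congr_fun h2 (e x)
  simpa using h3.symm

/-- The field part of an automorphism. -/
noncomputable def fieldPart : MulAut PSL →* RingAut F where
  toFun φ := (exists_diag_field p φ).choose_spec.choose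
  map_one' := by
    obtain ⟨h⟩ := Nonempty.intro (exists_diag_field p (1 : MulAut PSL)).choose_spec.choose_spec
    exact field_unique (g' := 1) (e' := RingEquiv.refl F)
      (h.symm.trans (by rw [map_one, fieldAut_refl, mul_one]))
  map_mul' φ ψ := by
    obtain ⟨h1⟩ := Nonempty.intro (exists_diag_field p φ).choose_spec.choose_spec
    obtain ⟨h2⟩ := Nonempty.intro (exists_diag_field p ψ).choose_spec.choose_spec
    obtain ⟨h3⟩ := Nonempty.intro (exists_diag_field p (φ * ψ)).choose_spec.choose_spec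
    refine field_unique (g' := (exists_diag_field p φ).choose *
      GeneralLinearGroup.map (exists_diag_field p φ).choose_spec.choose.toRingHom
        (exists_diag_field p ψ).choose) (h3.symm.trans ?_)
    conv_lhs => rw [h1, h2]
    rw [show ∀ a b : RingAut F, a * b = b.trans a from fun _ _ => rfl, fieldAut_trans, map_mul, mul_assoc, ← mul_assoc (fieldAut _),
      fieldAut_mul_diagAut]
    group

theorem fieldPart_eq {φ : MulAut PSL} {g : GL (Fin 2) F} {e : F ≃+* F}
    (h : φ = diagAut g * fieldAut e) : fieldPart p φ = e :=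
  field_unique ((exists_diag_field p φ).choose_spec.choose_spec.symm.trans h)

theorem exists_of_fieldPart_eq_one {φ : MulAut PSL} (h : fieldPart p φ = 1) :
    ∃ g : GL (Fin 2) F, φ = diagAut g := by
  obtain ⟨g, e, hge⟩ := exists_diag_field p φ
  rw [fieldPart_eq p hge] at h
  exact ⟨g, by rw [hge, h]; erw [fieldAut_refl]; rw [mul_one]⟩

omit [Fintype F] [Fact p.Prime] [CharP F p] in
theorem dil_inner_iff (c : Fˣ) :
    (∃ x : PSL, diagAut (dil c) = MulAut.conj x) ↔ c ∈ (powMonoidHom 2 : Fˣ →* Fˣ).range := by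
  constructor
  · rintro ⟨x, hx⟩
    obtain ⟨A, rfl⟩ := QuotientGroup.mk'_surjective _ x
    rw [show MulAut.conj (QuotientGroup.mk' _ A : PSL) = MulAut.conj (mk A) from rfl,
      ← diagAut_toGL] at hx
    have h1 : diagAut ((SpecialLinearGroup.toGL A)⁻¹ * dil c) = fieldAut (RingEquiv.refl F) := by
      rw [map_mul, map_inv, hx, inv_mul_cancel, fieldAut_refl]
    obtain ⟨-, r, hr⟩ := scalar_of_fix _ _ h1
    have hd := congrArg Matrix.det hr
    rw [Units.val_mul, Matrix.det_mul, ← map_inv] at hd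
    have hA : ((SpecialLinearGroup.toGL A⁻¹ : GL (Fin 2) F) : Matrix (Fin 2) (Fin 2) F).det = 1 :=
      (A⁻¹).2
    rw [hA, one_mul, Matrix.scalar_apply, Matrix.det_diagonal, Finset.prod_const,
      Finset.card_univ, Fintype.card_fin] at hd
    have hc : (c : F) = r ^ 2 := by simpa [dil, Matrix.det_fin_two_of] using hd
    have hr0 : r ≠ 0 := fun h0 => c.ne_zero (by simp [hc, h0])
    exact ⟨Units.mk0 r hr0, Units.ext (by simp [hc])⟩
  · rintro ⟨d, rfl⟩
    refine ⟨mk (dSL (d : F) d.ne_zero), ?_⟩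
    rw [← diagAut_toGL]
    have h2 : dil (powMonoidHom 2 d) = SpecialLinearGroup.toGL (dSL (d : F) d.ne_zero) *
        GeneralLinearGroup.mkOfDetNeZero (Matrix.scalar (Fin 2) (d : F))
          (by simp [Matrix.det_fin_two, d.ne_zero]) := by
      apply Units.ext
      rw [Units.val_mul]
      change !![((d ^ 2 : Fˣ) : F), 0; 0, 1] = !![(d : F), 0; 0, (d : F)⁻¹] *
        Matrix.scalar (Fin 2) (d : F)
      ext i j
      fin_cases i <;> fin_cases j <;>
        simp [Matrix.mul_apply, Fin.sum_univ_two, d.ne_zero, pow_two]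
    rw [h2, map_mul, diagAut_scalar (GeneralLinearGroup.mkOfDetNeZero (Matrix.scalar (Fin 2) (d : F))
      (by simp [d.ne_zero])) (d : F) rfl, mul_one]

end Finite

end CfsgLib.PSL2
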